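/-
Brauer's count: over an algebraically closed field of characteristic `p`, the irreducible representations of a
finite group are as many as the conjugacy classes of `p`-regular elements.
-/
import Cfsg.Agent.Lib.Blocks.CyclicDefect.Reps
import Cfsg.Agent.Lib.Blocks.LocalRankTwo
import Cfsg.Agent.Lib.Blocks.PPart
import Cfsg.Prelude.Def_Blocks
import Mathlib.FieldTheory.Finite.Basic
import Mathlib.Algebra.CharP.Algebra
import Mathlib.Algebra.CharP.Lemmas

set_option autoImplicit false
set_option linter.unusedSectionVars false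
set_option linter.style.haveILetI false

namespace Cfsg.Agent.Modular

open Cfsg Cfsg.Agent.Blocks.CyclicDefect

universe u v w

variable (p : ℕ) [hp : Fact p.Prime] (k : Type v) [Field k] [CharP k p] {G : Type u} [Group G] [Finite G]

/-- The conjugacy classes of `p`-regular elements. -/
def RegClass (G : Type u) [Group G] : Type u :=
  {c : ConjClasses G // ∃ g : G, ConjClasses.mk g = c ∧ IsPRegular p g}

instance : Finite (RegClass p G) :=
  haveI : Finite (ConjClasses G) := Finite.of_surjective _ ConjClasses.mk_surjective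
  Subtype.finite

variable {p}

/-- The `p`-regular part. -/
noncomputable def regPart (g : G) : G :=
  Classical.choose (Classical.choose_spec (Blocks.exists_isPPart (p := p) g))

theorem regPart_spec (g : G) : ∃ x : G, x * regPart (p := p) g = g ∧ Commute x (regPart (p := p) g) ∧
    (∃ a : ℕ, orderOf x = p ^ a) ∧ ¬ p ∣ orderOf (regPart (p := p) g) :=
  ⟨_, Classical.choose_spec (Classical.choose_spec (Blocks.exists_isPPart (p := p) g))⟩

theorem isPRegular_regPart (g : G) : IsPRegular p (regPart (p := p) g) := by
  obtain ⟨x, -, -, -, h⟩ := regPart_spec (p := p) g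
  exact h

variable (p) in
/-- A common exponent: it fixes regular elements and kills `p`-elements. -/
theorem exists_exponent (N : ℕ) : ∃ E, N ≤ p ^ E ∧
    (∀ g : G, IsPRegular p g → g ^ p ^ E = g) ∧ ∀ x : G, (∃ a, orderOf x = p ^ a) → x ^ p ^ E = 1 := by
  classical
  haveI := Fintype.ofFinite G
  obtain ⟨m, hm⟩ : ∃ m, m = Nat.card G / p ^ (Nat.card G).factorization p := ⟨_, rfl⟩
  have hnd : ¬ p ∣ m := hm ▸ Nat.not_dvd_ordCompl hp.out Nat.card_pos.ne'
  have hcop : Nat.Coprime p m := (Nat.Prime.coprime_iff_not_dvd hp.out).2 hnd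
  have hm0 : 0 < m := Nat.pos_of_ne_zero fun h => hnd (h ▸ dvd_zero p)
  set T := Nat.totient m with hT
  have hT0 : 0 < T := Nat.totient_pos.2 hm0
  refine ⟨T * (N + (Nat.card G).factorization p + 1), ?_, fun g hg => ?_, fun x hx => ?_⟩
  · refine (Nat.lt_pow_self hp.out.one_lt).le.trans (Nat.pow_le_pow_right hp.out.pos ?_)
    calc N ≤ 1 * (N + (Nat.card G).factorization p + 1) := by omega
      _ ≤ _ := Nat.mul_le_mul_right _ hT0
  · have hdvd : orderOf g ∣ m := by
      have h1 : orderOf g ∣ p ^ (Nat.card G).factorization p * m := by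
        rw [hm, Nat.mul_div_cancel' (Nat.ordProj_dvd _ _)]
        exact orderOf_dvd_natCard g
      exact (Nat.Coprime.pow_right _ ((Nat.Prime.coprime_iff_not_dvd hp.out).2 hg).symm).dvd_of_dvd_mul_left h1
    have h2 : p ^ (T * (N + (Nat.card G).factorization p + 1)) ≡ 1 [MOD m] := by
      rw [pow_mul]
      simpa using (Nat.ModEq.pow_totient hcop).pow (N + (Nat.card G).factorization p + 1)
    conv_rhs => rw [← pow_one g]
    exact pow_eq_pow_iff_modEq.2 (h2.of_dvd hdvd)
  · obtain ⟨a, ha⟩ := hx
    have ha' : a ≤ (Nat.card G).factorization p :=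
      (hp.out.pow_dvd_iff_le_factorization Nat.card_pos.ne').1 (ha ▸ orderOf_dvd_natCard x)
    rw [← orderOf_dvd_iff_pow_eq_one, ha]
    refine pow_dvd_pow _ ?_
    calc a ≤ 1 * (N + (Nat.card G).factorization p + 1) := by omega
      _ ≤ _ := Nat.mul_le_mul_right _ hT0

theorem pow_exponent {E : ℕ} (hfix : ∀ g : G, IsPRegular p g → g ^ p ^ E = g)
    (hkill : ∀ x : G, (∃ a, orderOf x = p ^ a) → x ^ p ^ E = 1) (g : G) :
    g ^ p ^ E = regPart (p := p) g := by
  obtain ⟨x, hxy, hc, hx, hy⟩ := regPart_spec (p := p) g
  conv_lhs => rw [← hxy]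
  rw [hc.mul_pow, hkill x hx, hfix _ hy, one_mul]

theorem regPart_conj (a g : G) : regPart (p := p) (a * g * a⁻¹) = a * regPart (p := p) g * a⁻¹ := by
  obtain ⟨E, -, hfix, hkill⟩ := exists_exponent (G := G) p 0
  rw [← pow_exponent hfix hkill, ← pow_exponent hfix hkill, conj_pow]

theorem regPart_of_regular {g : G} (hg : IsPRegular p g) : regPart (p := p) g = g := by
  obtain ⟨E, -, hfix, hkill⟩ := exists_exponent (G := G) p 0
  rw [← pow_exponent hfix hkill, hfix g hg]

/-- The class of the regular part. -/
noncomputable def regClassOf (g : G) : RegClass p G :=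
  ⟨ConjClasses.mk (regPart (p := p) g), _, rfl, isPRegular_regPart g⟩

theorem regClassOf_conj (a g : G) : regClassOf (p := p) (a * g * a⁻¹) = regClassOf g :=
  Subtype.ext (ConjClasses.mk_eq_mk_iff_isConj.2 (isConj_iff.2 ⟨a⁻¹, by rw [regPart_conj]; group⟩))

theorem regClassOf_surjective : Function.Surjective (regClassOf (p := p) (G := G)) := fun ⟨c, g, hc, hg⟩ =>
  ⟨g, Subtype.ext (show ConjClasses.mk (regPart g) = c by rw [regPart_of_regular hg, hc])⟩

/-! ### Traces of representations -/

theorem trace_regPart {V : Type w} [AddCommGroup V] [Module k V] [FiniteDimensional k V]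
    (ρ : Representation k G V) (g : G) :
    LinearMap.trace k V (ρ g) = LinearMap.trace k V (ρ (regPart (p := p) g)) := by
  obtain ⟨x, hxy, hc, ⟨a, ha⟩, -⟩ := regPart_spec (p := p) g
  rcases subsingleton_or_nontrivial V with hV | hV
  · rw [Subsingleton.elim (ρ g) (ρ (regPart (p := p) g))]
  haveI : CharP (Module.End k V) p := charP_of_injective_algebraMap'
    (R := k) (A := Module.End k V) p
  set y := regPart (p := p) g
  have hnil : IsNilpotent (ρ x - 1) := by
    refine ⟨p ^ a, ?_⟩
    rw [sub_pow_expChar_pow_of_commute (p := p) (h := Commute.one_right (ρ x)), one_pow, ← map_pow, ← ha, pow_orderOf_eq_one, map_one,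
      sub_self]
  have hcomm : Commute (ρ x - 1) (ρ y) :=
    ((hc.map ρ).sub_left (Commute.one_left _))
  have h0 : LinearMap.trace k V ((ρ x - 1) * ρ y) = 0 :=
    (LinearMap.isNilpotent_trace_of_isNilpotent (hcomm.isNilpotent_mul_right hnil)).eq_zero
  rw [sub_mul, one_mul, map_sub, sub_eq_zero, ← map_mul, hxy] at h0
  exact h0

theorem trace_eq_of_regClassOf {V : Type w} [AddCommGroup V] [Module k V] [FiniteDimensional k V]
    (ρ : Representation k G V) {g h : G} (e : regClassOf (p := p) g = regClassOf h) :
    LinearMap.trace k V (ρ g) = LinearMap.trace k V (ρ h) := by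
  rw [trace_regPart (p := p) k ρ g, trace_regPart (p := p) k ρ h]
  obtain ⟨c, hc⟩ := isConj_iff.1 (ConjClasses.mk_eq_mk_iff_isConj.1 (congrArg Subtype.val e))
  rw [← hc, map_mul ρ _ c⁻¹, LinearMap.trace_mul_comm, ← map_mul ρ, ← mul_assoc, inv_mul_cancel, one_mul]

/-- At most as many pairwise non-isomorphic irreducible representations as regular classes. -/
theorem card_le_regClass [IsAlgClosed k] {ι : Type*} [Fintype ι] {X : ι → Type w} [∀ i, AddCommGroup (X i)]
    [∀ i, Module k (X i)] [∀ i, FiniteDimensional k (X i)] (τ : ∀ i, Representation k G (X i))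
    (hirr : ∀ i, Irr (τ i))
    (hne : ∀ i j, ∀ f : X i →ₗ[k] X j, Intw (τ i) (τ j) f → i ≠ j → f = 0) :
    Fintype.card ι ≤ Nat.card (RegClass p G) := by
  classical
  haveI := Fintype.ofFinite (RegClass p G)
  choose s hs using regClassOf_surjective (p := p) (G := G)
  let L : (RegClass p G → k) →ₗ[k] (G → k) := LinearMap.funLeft k k regClassOf
  have hfac : ∀ i, L (fun c => LinearMap.trace k (X i) (τ i (s c))) =
      fun g => LinearMap.trace k (X i) (τ i g) := fun i => funext fun g =>
    trace_eq_of_regClassOf (p := p) k (τ i) (hs _)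
  have hli : LinearIndependent k fun i (c : RegClass p G) => LinearMap.trace k (X i) (τ i (s c)) := by
    refine LinearIndependent.of_comp L ?_
    show LinearIndependent k fun i => L _
    simp only [hfac]
    exact linearIndependent_trace hirr hne
  rw [Nat.card_eq_fintype_card, ← Module.finrank_pi (ι := RegClass p G) k]
  exact hli.fintype_card_le_finrank

/-! ### Frobenius modulo commutators -/

theorem prod_rotate {M : Type*} [Group M] (l : List M) (j : ℕ) :
    ∃ c : M, (l.rotate j).prod = c * l.prod * c⁻¹ := by
  refine ⟨((l.take (j % l.length)).prod)⁻¹, ?_⟩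
  rw [List.rotate_eq_drop_append_take_mod, List.prod_append]
  conv_rhs => rw [← List.take_append_drop (j % l.length) l, List.prod_append]
  rw [List.take_append_drop]
  group

/-- A class functional at a `p`-th power. -/
theorem functional_pow [Fintype G] {f : G → k} (hf : ∀ a g, f (a * g * a⁻¹) = f g) (a : MonoidAlgebra k G) :
    (MonoidAlgebra.coeff (a ^ p)).sum (fun g c => c * f g) =
      ∑ g, MonoidAlgebra.coeff a g ^ p * f (g ^ p) := by
  classical
  let L : MonoidAlgebra k G →ₗ[k] k :=
    (Finsupp.linearCombination k f).comp (MonoidAlgebra.coeffLinearEquiv k).toLinearMap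
  have hL : ∀ x : MonoidAlgebra k G, L x = (MonoidAlgebra.coeff x).sum (fun g c => c * f g) := fun x => by
    simp [L, Finsupp.linearCombination_apply]
  have hsingle : ∀ g c, L (MonoidAlgebra.single g c) = c * f g := fun g c => by simp [hL]
  rw [← hL]
  have ha : a = ∑ g, MonoidAlgebra.single g (MonoidAlgebra.coeff a g) := by
    ext g
    simp [MonoidAlgebra.coeff_sum, Finsupp.single_apply]
  have hexp : a ^ p = ∑ t : Fin p → G, MonoidAlgebra.single (List.ofFn t).prod
      (∏ i, MonoidAlgebra.coeff a (t i)) := by
    have h1 : ∀ n : ℕ, a ^ n = ∑ t : Fin n → G, MonoidAlgebra.single (List.ofFn t).prod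
        (∏ i, MonoidAlgebra.coeff a (t i)) := by
      intro n
      induction n with
      | zero => simp [MonoidAlgebra.one_def]
      | succ n ih =>
        rw [pow_succ', ih]
        conv_lhs => arg 1; rw [ha]
        rw [Finset.sum_mul_sum, ← Finset.sum_product', Finset.univ_product_univ]
        refine Fintype.sum_equiv (Fin.consEquiv fun _ : Fin (n + 1) => G) _ _ fun x => ?_
        rw [MonoidAlgebra.single_mul_single]
        simp [Fin.consEquiv, List.ofFn_succ, Fin.prod_univ_succ]
    exact h1 p
  rw [hexp, map_sum]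
  simp only [hsingle]
  haveI : NeZero p := ⟨hp.out.ne_zero⟩
  -- non-constant tuples cancel
  let w : (Fin p → G) → k := fun t => (∏ i, MonoidAlgebra.coeff a (t i)) * f (List.ofFn t).prod
  have hw : ∀ (t : Fin p → G) (j : Fin p), w (fun i => t (i + j)) = w t := by
    intro t j
    show _ * f _ = _ * f _
    congr 1
    · exact Fintype.prod_equiv (Equiv.addRight j) _ _ fun i => rfl
    · have e : List.ofFn (fun i => t (i + j)) = (List.ofFn t).rotate j.val := by
        apply List.ext_getElem
        · simp
        intro n h1 h2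
        simp [List.getElem_rotate, Fin.add_def]
      rw [e]
      obtain ⟨c, hc⟩ := prod_rotate (List.ofFn t) j.val
      rw [hc, hf]
  letI : MulAction (Multiplicative (Fin p)) (Fin p → G) :=
    { smul := fun j t i => t (i + j.toAdd)
      one_smul := fun t => funext fun i => by
        show t (i + (1 : Multiplicative (Fin p)).toAdd) = t i
        rw [toAdd_one, add_zero]
      mul_smul := fun j j' t => funext fun i => by
        show t (i + (j * j').toAdd) = t (i + j.toAdd + j'.toAdd)
        rw [toAdd_mul, add_assoc] }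
  have hP : IsPGroup p (Multiplicative (Fin p)) := IsPGroup.of_card (n := 1) (by simp)
  show ∑ t, w t = _
  rw [← Finset.sum_filter_add_sum_filter_not Finset.univ
    (fun t => t ∈ MulAction.fixedPoints (Multiplicative (Fin p)) (Fin p → G))]
  have hzero : ∑ t with t ∉ MulAction.fixedPoints (Multiplicative (Fin p)) (Fin p → G), w t = 0 := by
    rw [← Finset.sum_fiberwise _ (fun t => (Quotient.mk (MulAction.orbitRel (Multiplicative (Fin p)) _) t))]
    refine Finset.sum_eq_zero fun o _ => ?_
    by_cases hne : (({t ∈ ({t : Fin p → G | t ∉ MulAction.fixedPoints (Multiplicative (Fin p)) (Fin p → G)} :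
        Finset _) | Quotient.mk _ t = o})).Nonempty
    swap
    · rw [Finset.not_nonempty_iff_eq_empty] at hne
      rw [hne, Finset.sum_empty]
    obtain ⟨t0, ht0⟩ := hne
    simp only [Finset.mem_filter, Finset.mem_univ, true_and] at ht0
    obtain ⟨hnf, rfl⟩ := ht0
    have horb : ∀ t, Quotient.mk (MulAction.orbitRel (Multiplicative (Fin p)) _) t = Quotient.mk _ t0 ↔
        t ∈ MulAction.orbit (Multiplicative (Fin p)) t0 := fun t => by
      rw [Quotient.eq]; exact Iff.rfl
    have hnfix : ∀ t ∈ MulAction.orbit (Multiplicative (Fin p)) t0,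
        t ∉ MulAction.fixedPoints (Multiplicative (Fin p)) (Fin p → G) := by
      rintro _ ⟨j, rfl⟩ hfix
      apply hnf
      intro i
      have h1 := hfix j⁻¹
      rw [inv_smul_smul] at h1
      have h2 := hfix i
      rw [← h1] at h2
      exact h2
    rw [Finset.sum_congr rfl fun t ht => show w t = w t0 by
      obtain ⟨-, h2⟩ := Finset.mem_filter.1 ht
      obtain ⟨j, rfl⟩ := (horb t).1 h2
      exact hw t0 j.toAdd, Finset.sum_const]
    have hcard : (({t ∈ ({t : Fin p → G | t ∉ MulAction.fixedPoints (Multiplicative (Fin p)) (Fin p → G)} :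
        Finset _) | Quotient.mk (MulAction.orbitRel (Multiplicative (Fin p)) _) t = Quotient.mk _ t0})).card =
        Nat.card (MulAction.orbit (Multiplicative (Fin p)) t0) := by
      rw [Nat.card_eq_fintype_card, ← Set.toFinset_card]
      congr 1
      ext t
      simp only [Finset.mem_filter, Finset.mem_univ, true_and, Set.mem_toFinset, horb]
      exact ⟨fun h => h.2, fun h => ⟨hnfix t h, h⟩⟩
    rw [hcard]
    obtain ⟨n, hn⟩ := hP.card_orbit t0
    rcases Nat.eq_zero_or_pos n with hn0 | hn0
    · exfalso
      apply hnf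
      rw [hn0, pow_zero] at hn
      intro j
      haveI : Subsingleton (MulAction.orbit (Multiplicative (Fin p)) t0) :=
        (Nat.card_eq_one_iff_unique.1 hn).1
      exact congrArg Subtype.val (Subsingleton.elim
        (⟨j • t0, j, rfl⟩ : MulAction.orbit (Multiplicative (Fin p)) t0) ⟨t0, MulAction.mem_orbit_self t0⟩)
    · rw [hn, nsmul_eq_mul, Nat.cast_pow, CharP.cast_eq_zero, zero_pow hn0.ne', zero_mul]
  rw [hzero, add_zero]
  refine Finset.sum_bij' (fun t _ => t 0) (fun g _ => fun _ => g) (fun _ _ => Finset.mem_univ _) ?_ ?_ ?_ ?_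
  · intro g _
    rw [Finset.mem_filter]
    exact ⟨Finset.mem_univ _, fun j => rfl⟩
  · intro t ht
    funext i
    have h := congrFun ((Finset.mem_filter.1 ht).2 (Multiplicative.ofAdd i)) 0
    show t 0 = t i
    have h' : t (0 + i) = t 0 := h
    rw [zero_add] at h'
    exact h'.symm
  · intro g _; rfl
  · intro t ht
    have hc : t = fun _ => t 0 := funext fun i => by
      have h := congrFun ((Finset.mem_filter.1 ht).2 (Multiplicative.ofAdd i)) 0
      have h' : t (0 + i) = t 0 := h
      rw [zero_add] at h'
      exact h'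
    show w t = _
    rw [hc]
    simp [w, List.ofFn_const]

theorem functional_pow_iter [Fintype G] {f : G → k} (hf : ∀ a g, f (a * g * a⁻¹) = f g)
    (h01 : ∀ g, f g ^ p = f g) (a : MonoidAlgebra k G) (E : ℕ) :
    (MonoidAlgebra.coeff (a ^ p ^ E)).sum (fun g c => c * f g) =
      (∑ g, MonoidAlgebra.coeff a g * f (g ^ p ^ E)) ^ p ^ E := by
  classical
  induction E generalizing f with
  | zero => simp [Finsupp.sum_fintype]
  | succ E ih =>
    rw [pow_succ, pow_mul, functional_pow k hf]
    have h2 : ∀ x g, f ((x * g * x⁻¹) ^ p) = f (g ^ p) := fun x g => by rw [conj_pow, hf]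
    have h3 := ih (f := fun g => f (g ^ p)) h2 (fun g => h01 _)
    rw [Finsupp.sum_fintype _ _ (by simp)] at h3
    rw [show ∑ g, MonoidAlgebra.coeff (a ^ p ^ E) g ^ p * f (g ^ p) =
      (∑ g, MonoidAlgebra.coeff (a ^ p ^ E) g * f (g ^ p)) ^ p by
        rw [sum_pow_char]; exact Finset.sum_congr rfl fun g _ => by rw [mul_pow, h01]]
    rw [h3, ← pow_mul]
    congr 1
    exact Finset.sum_congr rfl fun g _ => by rw [← pow_mul]

/-! ### The blocks of the semisimple quotient -/

/-- The representation given by an algebra homomorphism onto matrices. -/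
noncomputable def matRep {n : ℕ} (π : MonoidAlgebra k G →ₐ[k] Matrix (Fin n) (Fin n) k) :
    Representation k G (Fin n → k) :=
  (Matrix.toLinAlgEquiv'.toAlgHom.comp π).toMonoidHom.comp (MonoidAlgebra.of k G)

theorem asAlgebraHom_matRep {n : ℕ} (π : MonoidAlgebra k G →ₐ[k] Matrix (Fin n) (Fin n) k)
    (a : MonoidAlgebra k G) : (matRep k π).asAlgebraHom a = Matrix.toLinAlgEquiv' (π a) := by
  induction a using MonoidAlgebra.induction_on with
  | of g => simp [matRep]
  | add a b ha hb => simp [ha, hb]
  | smul c a ha => simp [ha]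

/-- **Brauer.** Enough irreducible representations for all regular classes. -/
theorem exists_irr_family [IsAlgClosed k] :
    ∃ (n : ℕ) (d : Fin n → ℕ) (τ : ∀ i, Representation k G (Fin (d i) → k)),
      Nat.card (RegClass p G) ≤ n ∧ (∀ i, Irr (τ i)) ∧
      ∀ i j, ∀ f : (Fin (d i) → k) →ₗ[k] (Fin (d j) → k), Intw (τ i) (τ j) f → i ≠ j → f = 0 := by
  classical
  haveI := Fintype.ofFinite G
  haveI : FiniteDimensional k (MonoidAlgebra k G) := inferInstance
  haveI := Blocks.LocalRankTwo.isArtinian k (MonoidAlgebra k G)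
  set J := Ring.jacobson (MonoidAlgebra k G) with hJ
  obtain ⟨n, d, hd, ⟨e⟩⟩ :=
    IsSemisimpleRing.exists_algEquiv_pi_matrix_of_isAlgClosed k (MonoidAlgebra k G ⧸ J)
  let π : ∀ i, MonoidAlgebra k G →ₐ[k] Matrix (Fin (d i)) (Fin (d i)) k := fun i =>
    (Pi.evalAlgHom k (fun i => Matrix (Fin (d i)) (Fin (d i)) k) i).comp
      (e.toAlgHom.comp (Ideal.Quotient.mkₐ k J))
  have hsurj : ∀ f : ∀ i, Matrix (Fin (d i)) (Fin (d i)) k, ∃ x, ∀ i, π i x = f i := fun f => by
    obtain ⟨x, hx⟩ := Ideal.Quotient.mk_surjective (e.symm f)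
    exact ⟨x, fun i => by
      show e (Ideal.Quotient.mk _ x) i = _
      rw [hx, e.apply_symm_apply]⟩
  have hker : ∀ x, (∀ i, π i x = 0) → x ∈ J := fun x hx => by
    refine Ideal.Quotient.eq_zero_iff_mem.1 (e.injective ?_)
    rw [map_zero]
    exact funext hx
  refine ⟨n, d, fun i => matRep k (π i), ?_, fun i => ⟨?_, fun U hU => ?_⟩, fun i j f hf hij => ?_⟩
  · -- class functionals on regular classes factor through the blocks
    haveI := Fintype.ofFinite (RegClass p G)
    let Φ : (RegClass p G → k) →ₗ[k] (MonoidAlgebra k G →ₗ[k] k) :=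
      { toFun := fun f => (Finsupp.linearCombination k (fun g => f (regClassOf g))).comp
          (MonoidAlgebra.coeffLinearEquiv k).toLinearMap
        map_add' := fun f f' => MonoidAlgebra.lhom_ext' fun g => LinearMap.ext_ring (by simp)
        map_smul' := fun c f => MonoidAlgebra.lhom_ext' fun g => LinearMap.ext_ring (by simp) }
    have hΦ : ∀ f a, Φ f a = ∑ g, MonoidAlgebra.coeff a g * f (regClassOf g) := fun f a => by
      simp [Φ, Finsupp.linearCombination_apply, Finsupp.sum_fintype]
    have hΦs : ∀ f g, Φ f (MonoidAlgebra.single g 1) = f (regClassOf g) := fun f g => by simp [Φ]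
    -- they vanish on the radical
    have hJ0 : ∀ f x, x ∈ J → Φ f x = 0 := by
      intro f x hx
      obtain ⟨m, hm⟩ := Blocks.LocalRankTwo.isNilpotent_of_mem k hx
      obtain ⟨E, hE, hfix, hkill⟩ := exists_exponent (G := G) p m
      have hind : ∀ c, Φ (Pi.single c 1) x = 0 := fun c => by
        have h01 : ∀ g : G, (Pi.single c (1 : k) : RegClass p G → k) (regClassOf g) ^ p =
            (Pi.single c (1 : k) : RegClass p G → k) (regClassOf g) := fun g => by
          rw [Pi.single_apply]; split_ifs <;> simp [hp.out.ne_zero]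
        have h := functional_pow_iter (p := p) k (f := fun g => (Pi.single c (1 : k) : RegClass p G → k) (regClassOf g))
          (fun a g => by rw [regClassOf_conj]) h01 x E
        rw [pow_eq_zero_of_le hE hm] at h
        simp only [MonoidAlgebra.coeff_zero, Finsupp.sum_zero_index, pow_exponent hfix hkill] at h
        rw [eq_comm, pow_eq_zero_iff (pow_ne_zero _ hp.out.ne_zero)] at h
        rw [hΦ, ← h]
        refine Finset.sum_congr rfl fun g _ => ?_
        rw [show regClassOf (p := p) (regPart (p := p) g) = regClassOf g from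
          Subtype.ext (by simp [regClassOf, regPart_of_regular (isPRegular_regPart g)])]
      rw [show f = ∑ c, f c • Pi.single c 1 by funext c; simp [Pi.single_apply], map_sum, LinearMap.sum_apply]
      exact Finset.sum_eq_zero fun c _ => by rw [map_smul, LinearMap.smul_apply, hind, smul_zero]
    -- and are traces
    have htr : ∀ f a b, Φ f (a * b) = Φ f (b * a) := by
      intro f a b
      induction a using MonoidAlgebra.induction_on with
      | of g =>
        induction b using MonoidAlgebra.induction_on with
        | of h =>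
          simp only [MonoidAlgebra.of_apply, MonoidAlgebra.single_mul_single, mul_one, hΦs]
          rw [show g * h = g * (h * g) * g⁻¹ by group, regClassOf_conj]
        | add a b ha hb => rw [mul_add, add_mul, map_add, map_add, ha, hb]
        | smul c a ha => rw [mul_smul_comm, smul_mul_assoc, map_smul, map_smul, ha]
      | add a b ha hb => rw [mul_add, add_mul, map_add, map_add, ha, hb]
      | smul c a ha => rw [mul_smul_comm, smul_mul_assoc, map_smul, map_smul, ha]
    choose E hE using fun (i : Fin n) (A : Matrix (Fin (d i)) (Fin (d i)) k) =>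
      hsurj (Pi.single i A)
    have hfac : ∀ f, ∃ c : Fin n → k, Φ f = ∑ i, c i • (Matrix.traceLinearMap (Fin (d i)) k k).comp
        (π i).toLinearMap := by
      intro f
      refine ⟨fun i => haveI := hd i; Φ f (E i (Matrix.single 0 0 1)), LinearMap.ext fun a => ?_⟩
      have hdiff : ∀ x y, (∀ i, π i x = π i y) → Φ f x = Φ f y := fun x y h => by
        rw [← sub_eq_zero, ← map_sub]
        exact hJ0 f _ (hker _ fun i => by rw [map_sub, h, sub_self])
      have e1 : Φ f a = ∑ i, ∑ r, ∑ s, π i a r s * Φ f (E i (Matrix.single r s 1)) := by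
        rw [hdiff a (∑ i, ∑ r, ∑ s, π i a r s • E i (Matrix.single r s 1)) fun j => ?_]
        · simp [map_sum]
        simp only [map_sum, map_smul, hE]
        rw [Finset.sum_eq_single j (fun i _ hi => by simp [Pi.single_eq_of_ne (Ne.symm hi)]) (by simp)]
        simp only [Pi.single_eq_same, Matrix.smul_single, smul_eq_mul, mul_one]
        exact Matrix.matrix_eq_sum_single _
      rw [e1, LinearMap.sum_apply]
      refine Finset.sum_congr rfl fun i _ => ?_
      haveI := hd i
      have hmul : ∀ A B, Φ f (E i (A * B)) = Φ f (E i A * E i B) := fun A B =>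
        hdiff _ _ fun j => by
          rw [map_mul, hE, hE, hE]
          rcases eq_or_ne j i with rfl | hji
          · simp
          · simp [Pi.single_eq_of_ne hji]
      have hrs : ∀ r s, Φ f (E i (Matrix.single r s 1)) =
          if r = s then Φ f (E i (Matrix.single 0 0 1)) else 0 := fun r s => by
        have h1 : Φ f (E i (Matrix.single r s 1)) = Φ f (E i (Matrix.single r 0 1 * Matrix.single 0 s 1)) := by
          rw [Matrix.single_mul_single_same, mul_one]
        rw [h1, hmul, htr, ← hmul]
        split_ifs with hrs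
        · rw [hrs, Matrix.single_mul_single_same, mul_one]
        · rw [Matrix.single_mul_single_of_ne (h := Ne.symm hrs)]
          have h0 : ∀ j, π j (E i 0) = π j 0 := fun j => by simp [hE]
          rw [hdiff _ 0 h0, map_zero]
      dsimp only
      generalize hc : Φ f (E i (Matrix.single 0 0 1)) = c at hrs ⊢
      simp only [hrs, mul_ite, mul_zero, Finset.sum_ite_eq, Finset.mem_univ, if_true, LinearMap.smul_apply,
        LinearMap.comp_apply, AlgHom.toLinearMap_apply, Matrix.traceLinearMap_apply, smul_eq_mul, Matrix.trace,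
        Matrix.diag_apply, ← Finset.sum_mul]
      ring
    have hinj : Function.Injective Φ := fun f f' h => funext fun c => by
      obtain ⟨g, rfl⟩ := regClassOf_surjective c
      rw [← hΦs f g, h, hΦs f' g]
    let S := Submodule.span k (Set.range fun i : Fin n =>
      (Matrix.traceLinearMap (Fin (d i)) k k).comp (π i).toLinearMap)
    have hle : LinearMap.range Φ ≤ S := by
      rintro _ ⟨f, rfl⟩
      obtain ⟨c, hc⟩ := hfac f
      rw [hc]
      exact Submodule.sum_mem _ fun i _ => Submodule.smul_mem _ _ (Submodule.subset_span ⟨i, rfl⟩)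
    have h1 := Submodule.finrank_mono hle
    rw [LinearMap.finrank_range_of_inj hinj, Module.finrank_pi, ← Nat.card_eq_fintype_card] at h1
    exact h1.trans ((finrank_range_le_card _).trans (by simp))
  · haveI := hd i
    infer_instance
  · rcases eq_or_ne U ⊥ with h | h
    · exact Or.inl h
    refine Or.inr (eq_top_iff.2 fun y _ => ?_)
    obtain ⟨x, hx, hx0⟩ := Submodule.exists_mem_ne_zero_of_ne_bot h
    obtain ⟨r, hr⟩ := Function.ne_iff.1 hx0
    obtain ⟨a, ha⟩ := hsurj (Pi.single i (Matrix.of fun u v => if v = r then y u / x r else 0))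
    have := hU.asAlgebraHom a hx
    rw [asAlgebraHom_matRep, ha, Pi.single_eq_same] at this
    convert this using 1
    funext u
    simp only [Matrix.toLinAlgEquiv'_apply, Matrix.mulVec, dotProduct, Matrix.of_apply, ite_mul, zero_mul,
      Finset.sum_ite_eq', Finset.mem_univ, if_true]
    exact (div_mul_cancel₀ _ hr).symm
  · refine LinearMap.ext fun x => ?_
    obtain ⟨a, ha⟩ := hsurj (Pi.single i 1)
    have := hf.asAlgebraHom a x
    rw [asAlgebraHom_matRep, asAlgebraHom_matRep, ha i, ha j, Pi.single_eq_same, map_one,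
      Pi.single_eq_of_ne (Ne.symm hij), map_zero] at this
    simpa using this

end Cfsg.Agent.Modular
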